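import Cfsg.Agent.H741.Lb.Defs
import Cfsg.Agent.H741.One.Asm
import Cfsg.Agent.H319.LB.Base

/-!
# S4879: the almost simple groups for `p ≥ 7` (helper741)

`rowAS_big` : `RowAS p M` from S4605, the classification half, `PSL₂(pⁿ)`, and the six named rows.
-/

set_option autoImplicit false

namespace Cfsg.Agent.H741.Lb

open Cfsg Subgroup Cfsg.Agent.H319.One

universe u

/-- The outcome of the classification half with names (same body as `H319.One.OutcomeN`). -/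
def OutN (p n : ℕ) (S : Type u) [Group S] : Prop :=
  (∃ (F : Type) (_ : Field F) (_ : Fintype F), Fintype.card F = p ^ n ∧
    Nonempty (S ≃* Matrix.ProjectiveSpecialLinearGroup (Fin 2) F)) ∨
  (p = 7 ∧ n = 2 ∧ Loc 7 3 S ∧ (Spor.IsoTh S ∨ Spor.IsoB S ∨
    ∃ (F : Type) (_ : Field F) (_ : Fintype F), Nonempty (S ≃* ↥(Lie.chevF4.group F)) ∧
      (orderOf ((Fintype.card F : ℕ) : ZMod 7) = 3 ∨ orderOf ((Fintype.card F : ℕ) : ZMod 7) = 6))) ∨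
  (p = 11 ∧ n = 2 ∧ Loc 11 5 S ∧ (Spor.IsoM S ∨
    ∃ (F : Type) (_ : Field F) (_ : Fintype F), Nonempty (S ≃* ↥(Lie.chevE8.group F)) ∧
      (orderOf ((Fintype.card F : ℕ) : ZMod 11) = 5 ∨ orderOf ((Fintype.card F : ℕ) : ZMod 11) = 10))) ∨
  (p = 11 ∧ n = 2 ∧ Lie.Iso2F4 S ∧
    ∀ x g : S, orderOf x = 11 → ∀ j : ℕ, (j = 3 ∨ j = 4 ∨ j = 5 ∨ j = 9) → g * x * g⁻¹ ≠ x ^ j)

/-- The name `F₄(q)`. -/
def QF4 (S : Type u) [Group S] : Prop :=
  ∃ (F : Type) (_ : Field F) (_ : Fintype F), Nonempty (S ≃* ↥(Lie.chevF4.group F)) ∧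
    (orderOf ((Fintype.card F : ℕ) : ZMod 7) = 3 ∨ orderOf ((Fintype.card F : ℕ) : ZMod 7) = 6)

/-- The name `E₈(q)`. -/
def QE8 (S : Type u) [Group S] : Prop :=
  ∃ (F : Type) (_ : Field F) (_ : Fintype F), Nonempty (S ≃* ↥(Lie.chevE8.group F)) ∧
    (orderOf ((Fintype.card F : ℕ) : ZMod 11) = 5 ∨ orderOf ((Fintype.card F : ℕ) : ZMod 11) = 10)

/-- The name `²F₄(q)`. -/
def Q2F4 (S : Type u) [Group S] : Prop :=
  Lie.Iso2F4 S ∧ ∀ x g : S, orderOf x = 11 → ∀ j : ℕ, (j = 3 ∨ j = 4 ∨ j = 5 ∨ j = 9) → g * x * g⁻¹ ≠ x ^ j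

/-- `PSL₂(pⁿ)` as the socle. -/
def RowPSL2 (p : ℕ) (M : Ideal AlgInt) : Prop :=
  ∀ (G : Type u) [Group G] [Finite G] (T : Subgroup G) [T.Normal],
    (∀ g : G, (∀ t ∈ T, Commute g t) → g = 1) → (∀ x : G, (∃ k : ℕ, orderOf x = p ^ k) → x ∈ T) →
    OneC p G →
    ∀ (F : Type) [Field F] [Fintype F] (n : ℕ), Fintype.card F = p ^ n → 2 ≤ n →
      Nonempty (↥T ≃* Matrix.ProjectiveSpecialLinearGroup (Fin 2) F) → p ≤ blockRank p (principalBlock M G)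

variable {p : ℕ} [hp : Fact p.Prime] {M : Ideal AlgInt}

/-- **`RowAS` for `p ≥ 7`.** -/
theorem rowAS_big (h7 : 7 ≤ p) (hEA : H741.One.RowEA.{u} p)
    (hCls : ∀ (S : Type u) [Group S] [Finite S] [IsSimpleGroup S] (n : ℕ), Hyp p n S → OutN p n S)
    (hPSL : RowPSL2.{u} p M)
    (hTh : p = 7 → Row.{u} p M fun S _ => Spor.IsoTh S) (hB : p = 7 → Row.{u} p M fun S _ => Spor.IsoB S)
    (hF4 : p = 7 → Row.{u} p M fun S _ => QF4 S) (hMo : p = 11 → Row.{u} p M fun S _ => Spor.IsoM S)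
    (hE8 : p = 11 → Row.{u} p M fun S _ => QE8 S) (h2F : p = 11 → Row.{u} p M fun S _ => Q2F4 S) :
    H319.LB.RowAS.{u} p M := by
  intro G _ _ hconj hp2 T _ _ _ hTC hTp
  have hyp := H741.One.hyp_of h7 hp2 hconj (hEA G hconj) T hTp
  have hcard : (Nat.card G).factorization p = 2 → ∀ P : Sylow p G, Nat.card P = p ^ 2 := fun h P => by
    rw [← h]
    exact P.card_eq_multiplicity
  rcases hCls ↥T _ hyp with ⟨F, i1, i2, hF, e⟩ | ⟨hp7, hn, -, h | h | h⟩ | ⟨hp11, hn, -, h | h⟩ | ⟨hp11, hn, h⟩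
  · exact hPSL G T hTC hTp hconj F _ hF hyp.two e
  · exact hTh hp7 G T hTC hTp hconj (hcard hn) h
  · exact hB hp7 G T hTC hTp hconj (hcard hn) h
  · exact hF4 hp7 G T hTC hTp hconj (hcard hn) h
  · exact hMo hp11 G T hTC hTp hconj (hcard hn) h
  · exact hE8 hp11 G T hTC hTp hconj (hcard hn) h
  · exact h2F hp11 G T hTC hTp hconj (hcard hn) h

end Cfsg.Agent.H741.Lb
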