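import Cfsg.Agent.H423.LB.Cell8
import Cfsg.Agent.H596.L8.Five8

/-!
# The cell counts in the form of helper596 (helper741, from helper423's `exists_hel`, `cell_sums`)
-/

set_option autoImplicit false

namespace Cfsg.Agent.H741.Lb

open Cfsg.Agent.H423.PQ.Co Cfsg.Agent.H594.PQ Cfsg.Agent.H996.PQ Cfsg.Agent.H996.Eight
open CoxeterSystem Cfsg.Agent.ChevalleyStructure.CoxeterGeom Cfsg.Agent.Tits.Roots Cfsg.Agent.Tits.Core
  Cfsg.Agent.Tits.Exchange Cfsg.Agent.Nodes.Reps Cfsg.Agent.Nodes.BNOf Cfsg.Agent.Nodes.Bruhat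
  Cfsg.Agent.Nodes.LeviDec

universe u

theorem cellC {W : Type*} {Y : Type u} [Group W] [Finite W] [Group Y] [Finite Y]
    {M : CoxeterMatrix (Fin 8)} {cs : CoxeterSystem M W} {h : IsCartan M TabE8c.A} {p : ℕ} {T : Subgroup Y}
    {n : Fin 8 → Y} {X : (Fin 8 → ℤ) → Subgroup Y} (R : RGD cs h p T n X) (hG : GG cs h T X = ⊤)
    {x : ℕ} (hq : ∀ i, Nat.card (X (sr i)) = x) : Cfsg.Agent.H596.L8.CellC R hG x := by
  obtain ⟨h0, hr, hc⟩ := Cfsg.Agent.H423.LB.exists_hel R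
  refine ⟨h0, ?_, fun φ => (Cfsg.Agent.H423.LB.cell_sums R hG hq hr φ).1,
    fun φ => (Cfsg.Agent.H423.LB.cell_sums R hG hq hr φ).2⟩
  have h1 : Cfsg.Agent.H596.L8.SAg X ≤ Subgroup.centralizer ({h0} : Set Y) := by
    refine iSup_le fun j => fun a ha => ?_
    rw [Subgroup.mem_centralizer_singleton_iff]
    exact (hc j.1 j.2 a ha).symm
  intro z hz
  have h2 := h1 hz
  rw [Subgroup.mem_centralizer_singleton_iff] at h2
  exact h2.symm

end Cfsg.Agent.H741.Lb
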